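import Groth.Agent.Lib.KFlat.Site
import Mathlib.Algebra.Homology.BifunctorAssociator

/-! Associativity of the tensor product of sheaves of modules and of complexes of them. -/

set_option autoImplicit false
set_option linter.unusedSectionVars false
set_option linter.style.haveILetI false
set_option backward.isDefEq.respectTransparency false
set_option backward.isDefEq.respectTransparency.types false

universe u

open CategoryTheory CategoryTheory.Limits MonoidalCategory Opposite

namespace Groth.Agent.SiteTen16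

open KFlat KFlat.Site

variable {C : Type u} [SmallCategory C] {J : GrothendieckTopology C} (O : Sheaf J CommRingCat.{u})

noncomputable abbrev Sh := ModSite.shPre O
noncomputable abbrev Fg := ModSite.toPre O

/-- the unit, tensored on the right, becomes invertible -/
noncomputable def unitR (P R : ModSite.preMod O) :
    (Sh O).obj (P ⊗ R) ≅ (Sh O).obj ((Fg O).obj ((Sh O).obj P) ⊗ R) :=
  @asIso _ _ _ _ ((Sh O).map ((adj O).unit.app P ▷ R))
    (isIso_shPre_map O _ (SiteW.W.whiskerRight R (W_unit O P)))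

/-- the unit, tensored on the left, becomes invertible -/
noncomputable def unitL (P R : ModSite.preMod O) :
    (Sh O).obj (R ⊗ P) ≅ (Sh O).obj (R ⊗ (Fg O).obj ((Sh O).obj P)) :=
  @asIso _ _ _ _ ((Sh O).map (R ◁ (adj O).unit.app P))
    (isIso_shPre_map O _ (SiteW.W.whiskerLeft R (W_unit O P)))

theorem unitR_natural {P P' R R' : ModSite.preMod O} (a : P ⟶ P') (h : R ⟶ R') :
    (unitR O P R).hom ≫ (Sh O).map ((Fg O).map ((Sh O).map a) ⊗ₘ h) =
      (Sh O).map (a ⊗ₘ h) ≫ (unitR O P' R').hom := by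
  change (Sh O).map _ ≫ (Sh O).map _ = (Sh O).map _ ≫ (Sh O).map _
  rw [← Functor.map_comp, ← Functor.map_comp]
  refine congrArg (Sh O).map ?_
  rw [← tensorHom_id, ← tensorHom_id, tensorHom_comp_tensorHom, tensorHom_comp_tensorHom,
    Category.id_comp, Category.comp_id]
  exact congrArg (fun t => t ⊗ₘ h) ((adj O).unit.naturality a).symm

theorem unitL_natural {P P' R R' : ModSite.preMod O} (a : P ⟶ P') (h : R ⟶ R') :
    (unitL O P R).hom ≫ (Sh O).map (h ⊗ₘ (Fg O).map ((Sh O).map a)) =
      (Sh O).map (h ⊗ₘ a) ≫ (unitL O P' R').hom := by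
  change (Sh O).map _ ≫ (Sh O).map _ = (Sh O).map _ ≫ (Sh O).map _
  rw [← Functor.map_comp, ← Functor.map_comp]
  refine congrArg (Sh O).map ?_
  rw [← id_tensorHom, ← id_tensorHom, tensorHom_comp_tensorHom, tensorHom_comp_tensorHom,
    Category.id_comp, Category.comp_id]
  exact congrArg (fun t => h ⊗ₘ t) ((adj O).unit.naturality a).symm

/-- associativity on one triple -/
noncomputable def assocX (X Y Z : ModSite.Mod O) :
    ((TS O).obj (((TS O).obj X).obj Y)).obj Z ≅ ((TS O).obj X).obj (((TS O).obj Y).obj Z) :=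
  (unitR O ((Fg O).obj X ⊗ (Fg O).obj Y) ((Fg O).obj Z)).symm ≪≫
    (Sh O).mapIso (α_ _ _ _) ≪≫ unitL O ((Fg O).obj Y ⊗ (Fg O).obj Z) ((Fg O).obj X)

theorem assocX_natural {X X' Y Y' Z Z' : ModSite.Mod O} (f : X ⟶ X') (g : Y ⟶ Y') (h : Z ⟶ Z') :
    (Sh O).map ((Fg O).map ((Sh O).map ((Fg O).map f ⊗ₘ (Fg O).map g)) ⊗ₘ (Fg O).map h) ≫
        (assocX O X' Y' Z').hom =
      (assocX O X Y Z).hom ≫
        (Sh O).map ((Fg O).map f ⊗ₘ (Fg O).map ((Sh O).map ((Fg O).map g ⊗ₘ (Fg O).map h))) := by
  refine (cancel_epi (unitR O ((Fg O).obj X ⊗ (Fg O).obj Y) ((Fg O).obj Z)).hom).1 ?_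
  refine ((Category.assoc _ _ _).symm.trans (congrArg (· ≫ _) (unitR_natural O _ _))).trans ?_
  simp only [assocX, Iso.trans_hom, Iso.symm_hom, Category.assoc, Iso.hom_inv_id_assoc,
    Functor.mapIso_hom, unitL_natural]
  rw [← Functor.map_comp_assoc, associator_naturality, Functor.map_comp_assoc]

/-- associativity as an isomorphism of trifunctors -/
noncomputable def assocIso : bifunctorComp₁₂ (TS O) (TS O) ≅ bifunctorComp₂₃ (TS O) (TS O) :=
  NatIso.ofComponents (fun X => NatIso.ofComponents (fun Y => NatIso.ofComponents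
    (fun Z => assocX O X Y Z)
    (fun {Z Z'} h => by
      have := assocX_natural O (𝟙 X) (𝟙 Y) h
      erw [(Fg O).map_id, (Fg O).map_id] at this
      simp only [id_tensorHom, MonoidalCategory.whiskerLeft_id] at this
      erw [(Sh O).map_id, (Fg O).map_id, id_tensorHom, id_tensorHom, id_tensorHom] at this
      exact this))
    (fun {Y Y'} g => NatTrans.ext (funext fun Z => by
      have := assocX_natural O (𝟙 X) g (𝟙 Z)
      erw [(Fg O).map_id, (Fg O).map_id] at this
      erw [id_tensorHom, id_tensorHom, tensorHom_id, tensorHom_id] at this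
      exact this)))
    (fun {X X'} f => NatTrans.ext (funext fun Y => NatTrans.ext (funext fun Z => by
      have hR : (Fg O).map f ⊗ₘ (Fg O).map ((Sh O).map ((Fg O).map (𝟙 Y) ⊗ₘ (Fg O).map (𝟙 Z))) =
          (Fg O).map f ▷ (Fg O).obj ((Sh O).obj ((Fg O).obj Y ⊗ (Fg O).obj Z)) :=
        (congrArg (fun t => (Fg O).map f ⊗ₘ t) ((congrArg (Fg O).map ((congrArg (Sh O).map
          ((congrArg₂ (fun a b => a ⊗ₘ b) ((Fg O).map_id Y) ((Fg O).map_id Z)).trans (id_tensorHom_id _ _))).trans
            ((Sh O).map_id _))).trans ((Fg O).map_id _))).trans (tensorHom_id _ _)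
      have hL : (Fg O).map ((Sh O).map ((Fg O).map f ⊗ₘ (Fg O).map (𝟙 Y))) ⊗ₘ (Fg O).map (𝟙 Z) =
          (Fg O).map ((Sh O).map ((Fg O).map f ▷ (Fg O).obj Y)) ▷ (Fg O).obj Z :=
        (congrArg₂ (fun a b => a ⊗ₘ b) (congrArg (fun t => (Fg O).map ((Sh O).map t))
          ((congrArg (fun t => (Fg O).map f ⊗ₘ t) ((Fg O).map_id Y)).trans (tensorHom_id _ _)))
            ((Fg O).map_id Z)).trans (tensorHom_id _ _)
      exact ((congrArg (fun t => (Sh O).map t ≫ _) hL).symm.trans (assocX_natural O f (𝟙 Y) (𝟙 Z))).trans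
        (congrArg (fun t => _ ≫ (Sh O).map t) hR))))

instance preservesDiscrete_left (M : ModSite.Mod O) {ι : Type} (F : Discrete ι ⥤ ModSite.Mod O) :
    PreservesColimit F ((TS O).obj M) :=
  haveI := preservesColimits_obj (O := O) M
  inferInstance

instance preservesDiscrete_right (M : ModSite.Mod O) {ι : Type} (F : Discrete ι ⥤ ModSite.Mod O) :
    PreservesColimit F ((TS O).flip.obj M) :=
  haveI := preservesColimits_flip_obj (O := O) M
  inferInstance

variable (K L M : CochainComplex (ModSite.Mod O) ℤ)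

/-- associativity of the total tensor product -/
noncomputable def tcxAssoc :
    ((tcx (TS O)).obj (((tcx (TS O)).obj K).obj L)).obj M ≅
      ((tcx (TS O)).obj K).obj (((tcx (TS O)).obj L).obj M) :=
  haveI : HomologicalComplex.HasGoodTrifunctor₁₂Obj (TS O) (TS O) K L M
      (ComplexShape.up ℤ) (ComplexShape.up ℤ) := fun _ _ => inferInstance
  haveI : HomologicalComplex.HasGoodTrifunctor₂₃Obj (TS O) (TS O) K L M
      (ComplexShape.up ℤ) (ComplexShape.up ℤ) (ComplexShape.up ℤ) := fun _ _ => inferInstance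
  HomologicalComplex.mapBifunctorAssociator (assocIso O) K L M (ComplexShape.up ℤ) (ComplexShape.up ℤ)
    (ComplexShape.up ℤ)

theorem isKFlat_tcx {K L : CochainComplex (ModSite.Mod O) ℤ} (hK : IsKFlat (TS O) K) (hL : IsKFlat (TS O) L) :
    IsKFlat (TS O) (((tcx (TS O)).obj K).obj L) := fun F hF =>
  acyclic_of_iso (hL _ (hK F hF)) (tcxAssoc O F K L)

end Groth.Agent.SiteTen16
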